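import Groth.Agent.Lib.QCAlgFT9.Gen

/-!
# The subalgebra generated by a finite type submodule
-/

set_option autoImplicit false
set_option backward.isDefEq.respectTransparency false
set_option linter.style.haveILetI false

universe u

open CategoryTheory CategoryTheory.Limits AlgebraicGeometry TopologicalSpace Opposite
open GrothLib.QCoh GrothLib.QCoh.SubData

noncomputable section

namespace GrothLib.QCAlgFT9

variable {X : Scheme.{u}} (B : _root_.RelSpec.QCAlg X) (Q : SubData B.toModule)

/-- The generated subalgebras on the affine opens. -/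
def subFun : X.AffineZariskiSiteᵒᵖ ⥤ CommRingCat.{u} where
  obj U := CommRingCat.of (genRing B Q U.unop.1)
  map {U V} i := CommRingCat.ofHom
    (((resB B (leOfHom ((RelSpec.aff X).map i.unop))).comp (genRing B Q U.unop.1).subtype).codRestrict
      (genRing B Q V.unop.1) fun b => res_mem B Q _ b.2)
  map_id U := by
    ext b
    exact ConcreteCategory.congr_hom (B.presheaf.map_id (op U.unop.1)) b.1
  map_comp {U V W} i j := by
    ext b
    exact (resB_resB B (leOfHom ((RelSpec.aff X).map i.unop))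
      (leOfHom ((RelSpec.aff X).map j.unop)) b.1).symm

/-- The structure map of the generated subalgebras. -/
def subStr : (RelSpec.aff X).op ⋙ X.presheaf ⟶ subFun B Q where
  app U := CommRingCat.ofHom ((strB B U.unop.1).codRestrict (genRing B Q U.unop.1) (str_mem B Q U.unop.1))
  naturality U V i := by
    ext r
    exact Subtype.ext (resB_strB B (leOfHom ((RelSpec.aff X).map i.unop)) r).symm

variable {Q}

theorem coequifibered_subStr (h : LocGen Q ⊤) : (subStr B Q).Coequifibered := by
  refine Scheme.AffineZariskiSite.coequifibered_iff_forall_isLocalizationAway.mpr fun U r => ?_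
  let ρ := resB B (X.basicOpen_le r)
  letI : Algebra (B.presheaf.obj (op U.1)) (B.presheaf.obj (op (X.basicOpen r))) := ρ.toAlgebra
  haveI : IsLocalization.Away (strB B U.1 r) (B.presheaf.obj (op (X.basicOpen r))) := B.isQC _ U.2 r
  let ρ' : genRing B Q U.1 →+* genRing B Q (X.basicOpen r) :=
    (ρ.comp (genRing B Q U.1).subtype).codRestrict (genRing B Q (X.basicOpen r)) fun b => res_mem B Q _ b.2
  letI : Algebra (genRing B Q U.1) (genRing B Q (X.basicOpen r)) := ρ'.toAlgebra
  show IsLocalization.Away (⟨strB B U.1 r, str_mem B Q U.1 r⟩ : genRing B Q U.1) (genRing B Q (X.basicOpen r))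
  refine IsLocalization.Away.mk _ ?_ (fun y => ?_) fun a b hab => ?_
  · obtain ⟨u, hu⟩ := (RingedSpace.isUnit_res_basicOpen X.toRingedSpace r).exists_right_inv
    refine IsUnit.of_mul_eq_one (⟨strB B (X.basicOpen r) (show Γ(X, X.basicOpen r) from u), str_mem B Q (X.basicOpen r) _⟩ : genRing B Q (X.basicOpen r)) (Subtype.ext ?_)
    have hu' : (X.presheaf.map (homOfLE (X.basicOpen_le r)).op).hom r * (show Γ(X, X.basicOpen r) from u) = 1 := hu
    show resB B (X.basicOpen_le r) (strB B U.1 r) * strB B (X.basicOpen r) (show Γ(X, X.basicOpen r) from u) = 1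
    rw [resB_strB, ← map_mul]
    exact (congrArg (strB B (X.basicOpen r)) hu').trans (map_one _)
  · obtain ⟨n, a, ha, hy⟩ := exists_lift B h U.2 r y.1 y.2
    refine ⟨n, ⟨a, ha⟩, Subtype.ext ?_⟩
    show y.1 * _ = ρ a
    exact hy
  · obtain ⟨c, hc⟩ := IsLocalization.Away.exists_of_eq (x := strB B U.1 r)
      (S := B.presheaf.obj (op (X.basicOpen r))) (congrArg Subtype.val hab)
    exact ⟨c, Subtype.ext hc⟩

theorem finiteType_subStr (h : LocGen Q ⊤) (U : X.AffineZariskiSiteᵒᵖ) :
    ((subStr B Q).app U).hom.FiniteType := by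
  classical
  haveI := isQuasicoherent_toModule B
  haveI : Q.obj.IsQuasicoherent := h.isQuasicoherent
  obtain ⟨S, hS⟩ := (moduleFinite_of_isFiniteType Q.obj h.isFiniteType U.unop.2).fg_top
  let ψ := (strB B U.unop.1).codRestrict (genRing B Q U.unop.1) (str_mem B Q U.unop.1)
  letI : Algebra Γ(X, U.unop.1) (genRing B Q U.unop.1) := ψ.toAlgebra
  let g : Γ(Q.obj, U.unop.1) → genRing B Q U.unop.1 := fun q =>
    ⟨Q.ι.app U.unop.1 q, sec_mem B Q (Q.ι_app_mem q)⟩
  show Algebra.FiniteType Γ(X, U.unop.1) (genRing B Q U.unop.1)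
  refine ⟨⟨S.image g, eq_top_iff.2 ?_⟩⟩
  rintro ⟨b, hb⟩ -
  refine Subring.closure_induction
    (p := fun b hb => (⟨b, hb⟩ : genRing B Q U.unop.1) ∈ Algebra.adjoin Γ(X, U.unop.1) (S.image g : Set (genRing B Q U.unop.1)))
    ?_ ?_ ?_ ?_ ?_ ?_ hb
  · rintro z (⟨r, rfl⟩ | hq)
    · exact Subalgebra.algebraMap_mem _ r
    · have hmem : ∀ q : Γ(Q.obj, U.unop.1), g q ∈
          Algebra.adjoin Γ(X, U.unop.1) (S.image g : Set (genRing B Q U.unop.1)) := by
        intro q
        have hq' : q ∈ Submodule.span Γ(X, U.unop.1) (S : Set Γ(Q.obj, U.unop.1)) := by rw [hS]; trivial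
        induction hq' using Submodule.span_induction with
        | mem x hx => exact Algebra.subset_adjoin (Finset.mem_image_of_mem g hx)
        | zero =>
          rw [show g 0 = 0 from Subtype.ext (map_zero (Q.ι.app U.unop.1).hom)]
          exact zero_mem _
        | add x y _ _ hx hy =>
          rw [show g (x + y) = g x + g y from Subtype.ext (map_add (Q.ι.app U.unop.1).hom x y)]
          exact add_mem hx hy
        | smul a x _ hx =>
          rw [show g (a • x) = ψ a * g x from Subtype.ext (Scheme.Modules.Hom.app_smul Q.ι a x)]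
          exact mul_mem (Subalgebra.algebraMap_mem _ a) hx
      exact hmem (Q.lift z hq)
  · exact zero_mem _
  · exact one_mem _
  · exact fun x y hx hy a b => add_mem a b
  · exact fun x hx a => neg_mem a
  · exact fun x y hx hy a b => mul_mem a b

/-- The subalgebra generated by a finite type submodule. -/
theorem exists_subalgebra (h : LocGen Q ⊤) :
    ∃ (B' : _root_.RelSpec.QCAlg X) (φ : B' ⟶ B),
      (∀ V : X.Opens, Function.Injective (φ.hom.app (op V)).hom) ∧
      (∀ V : X.affineOpens, (B'.str.app (op (V : X.Opens))).hom.FiniteType) ∧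
      ∀ U : X.Opens, IsAffineOpen U → secSet B Q U ⊆ Set.range (φ.hom.app (op U)).hom := by
  obtain ⟨A, i, hi⟩ := RelSpec.exists_qcAlg_of_coequifibered _ _ (coequifibered_subStr B h)
  let ψ : ∀ U : X.AffineZariskiSite, A.presheaf.obj (op U.1) →+* B.presheaf.obj (op U.1) := fun U =>
    (genRing B Q U.1).subtype.comp (i.inv.app (op U)).hom
  have hψ : ∀ (U W : X.AffineZariskiSite) (le : W ≤ U) (h' : W.1 ≤ U.1) (x : A.presheaf.obj (op U.1)),
      ψ W ((A.presheaf.map (homOfLE h').op).hom x) = resB B h' (ψ U x) := fun U W le h' x =>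
    congrArg Subtype.val (ConcreteCategory.congr_hom (i.inv.naturality (homOfLE le).op) x)
  obtain ⟨φ, hφ⟩ := RelSpec.exists_algHom (A := A) (B := B) (fun U hU => ψ ⟨U, hU⟩)
    (fun U hU r => by
      have e := ConcreteCategory.congr_hom (NatTrans.congr_app hi (op (⟨U, hU⟩ : X.AffineZariskiSite))) r
      have e' := congrArg (fun z => (genRing B Q U).subtype (i.inv.app (op (⟨U, hU⟩ : X.AffineZariskiSite)) z)) e
      refine e'.symm.trans ?_
      exact congrArg Subtype.val (Iso.hom_inv_id_app_apply i (op (⟨U, hU⟩ : X.AffineZariskiSite))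
        ((subStr B Q).app (op (⟨U, hU⟩ : X.AffineZariskiSite)) r)))
    (fun U V hU hV hVU x => by
      choose f g hfg hx using fun p : V => exists_basicOpen_le_affine_inter hU hV p.1 ⟨hVU p.2, p.2⟩
      refine TopCat.Sheaf.eq_of_locally_eq' ⟨B.presheaf, B.isSheaf⟩ (fun p => X.basicOpen (g p)) V
        (fun p => homOfLE (X.basicOpen_le (g p)))
        (fun p hp => Opens.mem_iSup.mpr ⟨⟨p, hp⟩, hfg _ ▸ hx ⟨p, hp⟩⟩) _ _ fun p => ?_
      have e1 := hψ ⟨V, hV⟩ ⟨_, hV.basicOpen (g p)⟩ ⟨g p, rfl⟩ (X.basicOpen_le (g p))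
        ((A.presheaf.map (homOfLE hVU).op).hom x)
      have e2 := hψ ⟨U, hU⟩ ⟨_, hV.basicOpen (g p)⟩ ⟨f p, hfg p⟩ ((X.basicOpen_le (g p)).trans hVU) x
      refine e1.symm.trans (Eq.trans ?_ (e2.trans (resB_resB B hVU (X.basicOpen_le (g p)) _).symm))
      refine congrArg (ψ ⟨_, hV.basicOpen (g p)⟩) ?_
      rw [← ConcreteCategory.comp_apply, ← Functor.map_comp]
      rfl)
  refine ⟨A, φ, fun V => ?_, fun V => ?_, fun U hU b hb => ?_⟩
  · intro s t hst
    choose W hW hxW hWV using fun p : V => exists_isAffineOpen_mem_and_subset (x := p.1) (U := V) p.2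
    refine TopCat.Sheaf.eq_of_locally_eq' ⟨A.presheaf, A.isSheaf⟩ W V (fun p => homOfLE (hWV p))
      (fun p hp => Opens.mem_iSup.mpr ⟨⟨p, hp⟩, hxW ⟨p, hp⟩⟩) _ _ fun p => ?_
    have hinj : Function.Injective (φ.hom.app (op (W p))).hom := by
      rw [hφ _ (hW p)]
      exact Subtype.val_injective.comp
        (ConcreteCategory.bijective_of_isIso (i.inv.app (op ⟨W p, hW p⟩))).1
    refine hinj ?_
    have n1 := ConcreteCategory.congr_hom (φ.hom.naturality (homOfLE (hWV p)).op) s
    have n2 := ConcreteCategory.congr_hom (φ.hom.naturality (homOfLE (hWV p)).op) t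
    exact n1.trans ((congrArg (B.presheaf.map (homOfLE (hWV p)).op) hst).trans n2.symm)
  · have e := NatTrans.congr_app hi (op (⟨V.1, V.2⟩ : X.AffineZariskiSite))
    change (A.str.app (op V.1)).hom.FiniteType
    rw [show A.str.app (op V.1) = _ from e.symm]
    exact (RingHom.FiniteType.of_surjective _ (ConcreteCategory.bijective_of_isIso
      (i.hom.app (op (⟨V.1, V.2⟩ : X.AffineZariskiSite)))).2).comp (finiteType_subStr B h _)
  · refine ⟨i.hom.app (op ⟨U, hU⟩) ⟨b, sec_mem B Q hb⟩, ?_⟩
    rw [hφ _ hU]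
    exact congrArg Subtype.val (Iso.hom_inv_id_app_apply i (op ⟨U, hU⟩) _)

end GrothLib.QCAlgFT9
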