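import Groth.Agent.Lib.QCoh.LocGenCases
import Groth.Agent.Lib.RelSpec.OfAffine
import Groth.Prelude.Def_RelSpec
import Groth.Prelude.Def_CohB1

/-!
# Generation of quasi-coherent algebras by submodules
-/

set_option autoImplicit false
set_option backward.isDefEq.respectTransparency false
set_option linter.style.haveILetI false

universe u

open CategoryTheory CategoryTheory.Limits AlgebraicGeometry TopologicalSpace Opposite
open GrothLib.QCoh GrothLib.QCoh.SubData

noncomputable section

namespace GrothLib.QCAlgFT9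

variable {X : Scheme.{u}} (B : _root_.RelSpec.QCAlg X)

/-- The structure map on sections. -/
abbrev strB (U : X.Opens) : Γ(X, U) →+* B.presheaf.obj (op U) := (B.str.app (op U)).hom

/-- Restriction of sections of the algebra. -/
abbrev resB {U V : X.Opens} (h : V ≤ U) : B.presheaf.obj (op U) →+* B.presheaf.obj (op V) :=
  (B.presheaf.map (homOfLE h).op).hom

theorem resB_strB {U V : X.Opens} (h : V ≤ U) (r : Γ(X, U)) :
    resB B h (strB B U r) = strB B V (X.presheaf.map (homOfLE h).op r) :=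
  (ConcreteCategory.congr_hom (B.str.naturality (homOfLE h).op) r).symm

theorem resB_resB {U V W : X.Opens} (h : V ≤ U) (h' : W ≤ V) (s : B.presheaf.obj (op U)) :
    resB B h' (resB B h s) = resB B (h'.trans h) s := by
  simp only [resB]
  rw [← ConcreteCategory.comp_apply, ← Functor.map_comp]
  rfl

theorem isQuasicoherent_toModule : B.toModule.IsQuasicoherent := by
  refine (isQuasicoherent_iff_smulLift_smulSep _).mpr fun U hU g => ?_
  let ρ : B.presheaf.obj (op U) →+* B.presheaf.obj (op (X.basicOpen g)) := resB B (X.basicOpen_le g)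
  letI := ρ.toAlgebra
  haveI : IsLocalization.Away (strB B U g) (B.presheaf.obj (op (X.basicOpen g))) := B.isQC U hU g
  refine ⟨fun (y : B.presheaf.obj (op (X.basicOpen g))) => ?_, fun (t : B.presheaf.obj (op U)) ht => ?_⟩
  · obtain ⟨n, a, hy⟩ := IsLocalization.Away.surj (strB B U g) y
    refine ⟨n, a, ?_⟩
    show ρ a = strB B _ _ * y
    rw [map_pow, ← resB_strB B (X.basicOpen_le g) g, mul_comm]
    exact hy.symm
  · obtain ⟨⟨c, n, rfl⟩, hc⟩ := IsLocalization.exists_of_eq (M := Submonoid.powers (strB B U g))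
      (S := B.presheaf.obj (op (X.basicOpen g))) (x := t) (y := 0) (ht.trans (map_zero ρ).symm)
    refine ⟨n, ?_⟩
    show strB B U (g ^ n) * t = 0
    rw [map_pow]
    simpa using hc

variable (Q : SubData B.toModule)

/-- The sections of a submodule, as a set of sections of the algebra. -/
def secSet (U : X.Opens) : Set (B.presheaf.obj (op U)) :=
  {b | (show Γ(B.toModule, U) from b) ∈ Q.sec U}

/-- The subalgebra generated by a submodule. -/
def genRing (U : X.Opens) : Subring (B.presheaf.obj (op U)) :=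
  Subring.closure (Set.range (strB B U) ∪ secSet B Q U)

theorem str_mem (U : X.Opens) (r : Γ(X, U)) : strB B U r ∈ genRing B Q U :=
  Subring.subset_closure (Or.inl ⟨r, rfl⟩)

theorem sec_mem {U : X.Opens} {b : B.presheaf.obj (op U)} (hb : b ∈ secSet B Q U) : b ∈ genRing B Q U :=
  Subring.subset_closure (Or.inr hb)

theorem res_mem {U V : X.Opens} (h : V ≤ U) {b : B.presheaf.obj (op U)} (hb : b ∈ genRing B Q U) :
    resB B h b ∈ genRing B Q V := by
  refine (Subring.closure_le (t := (genRing B Q V).comap (resB B h))).2 ?_ hb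
  rintro _ (⟨r, rfl⟩ | hq)
  · rw [SetLike.mem_coe, Subring.mem_comap, resB_strB]
    exact str_mem B Q V _
  · exact sec_mem B Q (Q.map_mem (homOfLE h) hq)

variable {Q}

/-- Elements of the generated subalgebra over a basic open come from the one over the affine open. -/
theorem exists_lift (h : LocGen Q ⊤) {U : X.Opens} (hU : IsAffineOpen U) (g : Γ(X, U))
    (y : B.presheaf.obj (op (X.basicOpen g))) (hy : y ∈ genRing B Q (X.basicOpen g)) :
    ∃ n : ℕ, ∃ a ∈ genRing B Q U,
      y * resB B (X.basicOpen_le g) (strB B U g) ^ n = resB B (X.basicOpen_le g) a := by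
  haveI := isQuasicoherent_toModule B
  refine Subring.closure_induction (p := fun y _ => ∃ n : ℕ, ∃ a ∈ genRing B Q U,
    y * resB B (X.basicOpen_le g) (strB B U g) ^ n = resB B (X.basicOpen_le g) a) ?_ ?_ ?_ ?_ ?_ ?_ hy
  · rintro z (⟨c, rfl⟩ | hq)
    · obtain ⟨n, c', hc'⟩ := exists_eq_pow_mul_of_isAffineOpen X U hU g c
      refine ⟨n, strB B U c', str_mem B Q U c', ?_⟩
      rw [resB_strB, resB_strB, ← map_pow, ← map_mul, mul_comm]
      exact congrArg (strB B _) hc'.symm
    · obtain ⟨n, t, ht⟩ := (smulLift_and_smulSep_of_isAffineOpen hU B.toModule g).1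
        (show Γ(B.toModule, X.basicOpen g) from z)
      have ht' : (rr (X.basicOpen_le g) t : Γ(B.toModule, X.basicOpen g)) ∈ Q.sec (X.basicOpen g) := by
        change rr (X.basicOpen_le g) t = _ at ht
        rw [ht]
        exact Submodule.smul_mem _ _ hq
      obtain ⟨m, hm⟩ := h.exists_pow_smul_mem hU le_top le_rfl hU.isCompact g t (by
        have := Q.map_mem (homOfLE (inf_le_left : X.basicOpen g ⊓ U ≤ X.basicOpen g)) ht'
        change rr _ (rr _ t) ∈ _ at this
        rwa [rr_rr] at this)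
      rw [rr_self] at hm
      refine ⟨m + n, strB B U (g ^ m) * (show B.presheaf.obj (op U) from t), sec_mem B Q hm, ?_⟩
      have ht2 : resB B (X.basicOpen_le g) (show B.presheaf.obj (op U) from t) =
          strB B (X.basicOpen g) ((X.presheaf.map (homOfLE (X.basicOpen_le g)).op g) ^ n) * z := ht
      rw [map_mul, ht2, map_pow, map_pow, map_pow, resB_strB, pow_add]
      ring
  · exact ⟨0, 0, zero_mem _, by simp⟩
  · exact ⟨0, 1, one_mem _, by simp⟩
  · rintro x y _ _ ⟨n, a, ha, hxa⟩ ⟨m, b, hb, hyb⟩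
    refine ⟨n + m, strB B U g ^ m * a + strB B U g ^ n * b,
      add_mem (mul_mem (pow_mem (str_mem B Q U g) m) ha) (mul_mem (pow_mem (str_mem B Q U g) n) hb), ?_⟩
    rw [map_add, map_mul, map_mul, ← hxa, ← hyb, map_pow, map_pow, pow_add]
    ring
  · rintro x _ ⟨n, a, ha, hxa⟩
    exact ⟨n, -a, neg_mem ha, by rw [map_neg, ← hxa, neg_mul]⟩
  · rintro x y _ _ ⟨n, a, ha, hxa⟩ ⟨m, b, hb, hyb⟩
    refine ⟨n + m, a * b, mul_mem ha hb, ?_⟩
    rw [map_mul, ← hxa, ← hyb, pow_add]
    ring

/-- The generated subalgebra is local on an affine open. -/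
theorem mem_genRing_of_local (h : LocGen Q ⊤) {U : X.Opens} (hU : IsAffineOpen U)
    (b : B.presheaf.obj (op U))
    (hb : ∀ x ∈ U, ∃ g : Γ(X, U), x ∈ X.basicOpen g ∧
      resB B (X.basicOpen_le g) b ∈ genRing B Q (X.basicOpen g)) :
    b ∈ genRing B Q U := by
  haveI := isQuasicoherent_toModule B
  let N : Submodule Γ(X, U) Γ(B.toModule, U) :=
    { carrier := {v | (show B.presheaf.obj (op U) from v) ∈ genRing B Q U}
      add_mem' := fun {a b} ha hb => (genRing B Q U).add_mem ha hb
      zero_mem' := zero_mem (genRing B Q U)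
      smul_mem' := fun r v hv => mul_mem (str_mem B Q U r) hv }
  refine Submodule.mem_of_span_eq_top_of_smul_pow_mem N
    {g | ∃ m : ℕ, g ^ m • (show Γ(B.toModule, U) from b) ∈ N} ?_ (show Γ(B.toModule, U) from b) fun g => g.2
  refine hU.iSup_basicOpen_eq_self_iff.1 (le_antisymm (iSup_le fun i => X.basicOpen_le _) ?_)
  intro x hx
  obtain ⟨g, hxg, hg⟩ := hb x hx
  obtain ⟨n, a, ha, hna⟩ := exists_lift B h hU g _ hg
  rw [← map_pow, ← map_mul] at hna
  obtain ⟨m, hm⟩ := (smulLift_and_smulSep_of_isAffineOpen hU B.toModule g).2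
    (show Γ(B.toModule, U) from b * strB B U g ^ n - a)
    (show resB B (X.basicOpen_le g) (b * strB B U g ^ n - a) = 0 by rw [map_sub, hna, sub_self])
  refine Opens.mem_iSup.2 ⟨⟨g, m + n, ?_⟩, hxg⟩
  have hm' : strB B U (g ^ m) * (b * strB B U g ^ n - a) = 0 := hm
  show strB B U (g ^ (m + n)) * b ∈ genRing B Q U
  have e : strB B U (g ^ (m + n)) * b = strB B U (g ^ m) * a := by
    rw [mul_sub, sub_eq_zero] at hm'
    rw [← hm', map_pow, map_pow, pow_add]
    ring
  rw [e]
  exact mul_mem (str_mem B Q U _) ha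

/-- A submodule containing generators over the members of an affine cover generates everywhere. -/
theorem genRing_eq_top (h : LocGen Q ⊤) {κ : Type*} (V : κ → X.Opens) (hV : ∀ k, IsAffineOpen (V k))
    (hcov : ∀ x : X, ∃ k, x ∈ V k) (hgen : ∀ k, genRing B Q (V k) = ⊤) {U : X.Opens} (hU : IsAffineOpen U) :
    genRing B Q U = ⊤ := by
  refine eq_top_iff.2 fun b _ => mem_genRing_of_local B h hU b fun x hx => ?_
  obtain ⟨k, hk⟩ := hcov x
  obtain ⟨g, g', hgg, hxg⟩ := exists_basicOpen_le_affine_inter hU (hV k) x ⟨hx, hk⟩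
  refine ⟨g, hxg, ?_⟩
  suffices hall : ∀ (D : X.Opens), X.basicOpen g' = D → ∀ y : B.presheaf.obj (op D), y ∈ genRing B Q D from
    hall _ hgg.symm _
  rintro D rfl y
  letI := (resB B (X.basicOpen_le g')).toAlgebra
  haveI : IsLocalization.Away (strB B (V k) g') (B.presheaf.obj (op (X.basicOpen g'))) := B.isQC _ (hV k) g'
  obtain ⟨n, a, hy⟩ := IsLocalization.Away.surj (strB B (V k) g') y
  have hy' : y * resB B (X.basicOpen_le g') (strB B (V k) g') ^ n = resB B (X.basicOpen_le g') a := hy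
  obtain ⟨u, hu⟩ : ∃ u, (X.presheaf.map (homOfLE (X.basicOpen_le g')).op g') * u = 1 :=
    (RingedSpace.isUnit_res_basicOpen X.toRingedSpace g').exists_right_inv
  have e : y = resB B (X.basicOpen_le g') a * strB B _ u ^ n := by
    rw [← hy', resB_strB, mul_assoc, ← mul_pow, ← map_mul, hu, map_one, one_pow, mul_one]
  rw [e]
  exact mul_mem (res_mem B Q _ (by rw [hgen k]; trivial)) (pow_mem (str_mem B Q _ u) n)

/-! ## Sums of submodules -/

theorem rr_mem_iSup {κ : Sort*} (P : κ → SubData B.toModule) {U V : X.Opens} (h : V ≤ U)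
    {s : Γ(B.toModule, U)} (hs : s ∈ ⨆ k, (P k).sec U) : rr h s ∈ ⨆ k, (P k).sec V := by
  refine Submodule.iSup_induction (motive := fun s => rr h s ∈ ⨆ k, (P k).sec V) _ hs
    (fun k x hx => Submodule.mem_iSup_of_mem k ((P k).map_mem _ hx))
    (by rw [map_zero]; exact zero_mem _) fun x y hx hy => by rw [map_add]; exact add_mem hx hy

/-- The sum of a family of submodules. -/
def sumData {κ : Sort*} (P : κ → SubData B.toModule) : SubData B.toModule where
  sec T :=
    { carrier := {s | ∀ x ∈ T, ∃ (T' : X.Opens) (h : T' ≤ T), x ∈ T' ∧ rr h s ∈ ⨆ k, (P k).sec T'}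
      add_mem' := fun {a b} ha hb x hx => by
        obtain ⟨T₁, h₁, hx₁, m₁⟩ := ha x hx
        obtain ⟨T₂, h₂, hx₂, m₂⟩ := hb x hx
        refine ⟨T₁ ⊓ T₂, inf_le_left.trans h₁, ⟨hx₁, hx₂⟩, ?_⟩
        rw [map_add]
        refine add_mem ?_ ?_
        · rw [← rr_rr h₁ inf_le_left]; exact rr_mem_iSup B P inf_le_left m₁
        · rw [← rr_rr h₂ inf_le_right]; exact rr_mem_iSup B P inf_le_right m₂
      zero_mem' := fun x hx => ⟨T, le_rfl, hx, by rw [map_zero]; exact zero_mem _⟩
      smul_mem' := fun r s hs x hx => by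
        obtain ⟨T', h, hx', m⟩ := hs x hx
        exact ⟨T', h, hx', by rw [rr_smul]; exact Submodule.smul_mem _ _ m⟩ }
  map_mem {U W} i s hs x hx := by
    obtain ⟨T', h, hx', m⟩ := hs x (i.le hx)
    refine ⟨T' ⊓ W, inf_le_right, ⟨hx', hx⟩, ?_⟩
    change rr _ (rr i.le s) ∈ _
    rw [rr_rr, ← rr_rr h inf_le_left]
    exact rr_mem_iSup B P inf_le_left m
  locality {U} s h x hx := by
    obtain ⟨W, i, hxW, hW⟩ := h x hx
    obtain ⟨T', h₁, hx', m⟩ := hW x hxW
    refine ⟨T', h₁.trans i.le, hx', ?_⟩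
    change rr h₁ (rr i.le s) ∈ _ at m
    rwa [rr_rr] at m

theorem le_sumData {κ : Sort*} (P : κ → SubData B.toModule) (k : κ) (T : X.Opens) :
    (P k).sec T ≤ (sumData B P).sec T := fun _ hs x hx =>
  ⟨T, le_rfl, hx, by rw [rr_self]; exact Submodule.mem_iSup_of_mem k hs⟩

theorem locGen_sumData {κ : Type*} [Finite κ] (P : κ → SubData B.toModule) (hP : ∀ k, LocGen (P k) ⊤) :
    LocGen (sumData B P) ⊤ := by
  intro x _
  choose W hW hxW _ S hS hgen using fun k => hP k x trivial
  obtain ⟨_, ⟨Z, hZ, rfl⟩, hxZ, hZle⟩ := X.isBasis_affineOpens.exists_subset_of_mem_open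
    (Set.mem_iInter.2 hxW : x ∈ ⋂ k, (W k : Set X)) (isOpen_iInter_of_finite fun k => (W k).isOpen)
  have hZW : ∀ k, Z ≤ W k := fun k => hZle.trans (Set.iInter_subset _ k)
  refine ⟨Z, hZ, hxZ, le_top, ⋃ k, rr (hZW k) '' S k, Set.finite_iUnion fun k => (hS k).image _,
    fun T hT => ?_⟩
  ext s
  constructor
  · intro hs
    refine (gen _).locality s fun y hy => ?_
    obtain ⟨T', h, hy', m⟩ := hs y hy
    refine ⟨T', homOfLE h, hy', ?_⟩
    change rr h s ∈ _
    refine SetLike.le_def.1 (iSup_le (a := (gen (⋃ k, rr (hZW k) '' S k)).sec T') fun k => ?_) m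
    rw [hgen k T' ((h.trans hT).trans (hZW k)), ← gen_image_rr (hZW k) (S k) (h.trans hT)]
    intro t ht z hz hzV
    obtain ⟨T'', h₁, h₂, hz', q⟩ := ht z hz hzV
    exact ⟨T'', h₁, h₂, hz', Submodule.span_mono (Set.image_mono (Set.subset_iUnion _ k)) q⟩
  · intro hs y hy
    obtain ⟨T', h₁, h₂, hy', q⟩ := hs y hy (hT hy)
    refine ⟨T', h₁, hy', ?_⟩
    refine Submodule.span_le.2 ?_ q
    rintro _ ⟨v, hv, rfl⟩
    obtain ⟨k, w, hw, rfl⟩ := Set.mem_iUnion.1 hv
    refine Submodule.mem_iSup_of_mem k ?_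
    rw [hgen k T' (h₂.trans (hZW k)), rr_rr]
    exact mem_gen_of_mem_span _ (Submodule.subset_span ⟨w, hw, rfl⟩)

/-! ## Extension from an affine open -/

/-- Finitely many sections over an affine open lie in a finite type submodule, qcqs case. -/
theorem exists_locGen_qcqs [CompactSpace X] [QuasiSeparatedSpace X] {U : X.Opens} (hU : IsAffineOpen U)
    {S : Set Γ(B.toModule, U)} (hS : S.Finite) : ∃ Q : SubData B.toModule, LocGen Q ⊤ ∧ S ⊆ Q.sec U := by
  haveI := isQuasicoherent_toModule B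
  have h0 : LocGen (gen S) U := fun x hx => ⟨U, hU, hx, le_rfl, S, hS, fun _ _ => rfl⟩
  obtain ⟨ι, _, V, hVA, -, hcov⟩ := exists_finite_affine_cover (U := (⊤ : X.Opens))
    (by simpa using isCompact_univ)
  let e := Fintype.equivFin ι
  obtain ⟨Q, hQ, hQU⟩ := h0.exists_extension (fun l => V (e.symm l)) (fun l => hVA _) U (by
      refine eq_top_iff.2 (hcov.trans (le_sup_of_le_right (iSup_le fun j => ?_)))
      exact le_iSup_of_le (f := fun l => V (e.symm l)) (e j) (by simp)) fun l => by
      rw [inf_sup_left, inf_iSup_eq, Opens.coe_sup, Opens.coe_iSup]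
      exact (QuasiSeparatedSpace.inter_isCompact _ _ (V _).isOpen (hVA _).isCompact U.isOpen hU.isCompact).union
        (isCompact_iUnion fun m => QuasiSeparatedSpace.inter_isCompact _ _ (V _).isOpen
          (hVA _).isCompact (V _).isOpen (hVA _).isCompact)
  refine ⟨Q, hQ, fun s hs => ?_⟩
  rw [hQU U le_rfl]
  exact mem_gen_of_mem_span le_rfl (Submodule.subset_span ⟨s, hs, rr_self _ s⟩)

/-- Finitely many sections over an affine open lie in a finite type submodule, locally Noetherian space. -/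
theorem exists_locGen_locallyNoetherianSpace
    (hX : ∀ x : X, ∃ U : X.Opens, x ∈ U ∧ NoetherianSpace (U : Set X)) {U : X.Opens} (hU : IsAffineOpen U)
    {S : Set Γ(B.toModule, U)} (hS : S.Finite) : ∃ Q : SubData B.toModule, LocGen Q ⊤ ∧ S ⊆ Q.sec U := by
  haveI := isQuasicoherent_toModule B
  have h0 : LocGen (gen S) U := fun x hx => ⟨U, hU, hx, le_rfl, S, hS, fun _ _ => rfl⟩
  obtain ⟨_, _⟩ := exists_wellFoundedLT (α := X.affineOpens)
  obtain ⟨Q, hQ, hQU⟩ := h0.exists_extension (fun l : X.affineOpens => l.1) (fun l => l.2) U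
    (by rw [iSup_affineOpens_eq_top, sup_top_eq])
    fun l => isCompact_of_subset_of_locallyNoetherianSpace hX l.2.isCompact Set.inter_subset_left
  refine ⟨Q, hQ, fun s hs => ?_⟩
  rw [hQU U le_rfl]
  exact mem_gen_of_mem_span le_rfl (Submodule.subset_span ⟨s, hs, rr_self _ s⟩)

/-- A finite type algebra on a compact scheme is generated by a finite type submodule, given extensions. -/
theorem exists_generating [CompactSpace X]
    (hext : ∀ {U : X.Opens}, IsAffineOpen U → ∀ {S : Set Γ(B.toModule, U)}, S.Finite →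
      ∃ Q : SubData B.toModule, LocGen Q ⊤ ∧ S ⊆ Q.sec U)
    (hB : ∀ U : X.affineOpens, (B.str.app (op (U : X.Opens))).hom.FiniteType) :
    ∃ (E : X.Modules) (j : E ⟶ B.toModule), Mono j ∧ Coh.IsQCoh E ∧ CohB1.IsFT E ∧
      ∀ U : X.affineOpens,
        Subring.closure (Set.range (B.str.app (op (U : X.Opens))).hom ∪
          Set.range (fun e : E.val.obj (op (U : X.Opens)) ↦
            (show B.presheaf.obj (op (U : X.Opens)) from (j.val.app (op (U : X.Opens))).hom e))) = ⊤ := by
  classical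
  haveI := isQuasicoherent_toModule B
  obtain ⟨ι, _, V, hVA, -, hcov⟩ := exists_finite_affine_cover (U := (⊤ : X.Opens))
    (by simpa using isCompact_univ)
  have hgens : ∀ k, ∃ S : Set Γ(B.toModule, V k), S.Finite ∧
      Subring.closure (Set.range (strB B (V k)) ∪ {b | (show Γ(B.toModule, V k) from b) ∈ S}) = ⊤ := by
    intro k
    letI := (strB B (V k)).toAlgebra
    obtain ⟨s, hs⟩ := (hB ⟨V k, hVA k⟩ : Algebra.FiniteType Γ(X, V k) (B.presheaf.obj (op (V k)))).out
    refine ⟨(s : Set (B.presheaf.obj (op (V k)))), s.finite_toSet, ?_⟩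
    have := congrArg Subalgebra.toSubring hs
    rw [Algebra.adjoin_eq_ring_closure, Algebra.top_toSubring] at this
    exact this
  choose S hS hSgen using hgens
  choose P hP hSP using fun k => hext (hVA k) (hS k)
  let Q := sumData B P
  have hQ : LocGen Q ⊤ := locGen_sumData B P hP
  have hmono : Mono Q.ι := (Scheme.Modules.toPresheaf X).mono_of_mono_map
    (@NatTrans.mono_of_mono_app _ _ _ _ _ _ _ fun T ↦
      (AddCommGrpCat.mono_iff_injective _).2 (Q.ι_app_injective T.unop))
  refine ⟨Q.obj, Q.ι, hmono, hQ.isQuasicoherent, hQ.isFiniteType, fun U => ?_⟩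
  have hr : Set.range (fun e : Q.obj.val.obj (op (U : X.Opens)) ↦
      (show B.presheaf.obj (op (U : X.Opens)) from (Q.ι.val.app (op (U : X.Opens))).hom e)) = secSet B Q U :=
    Q.range_ι_app U
  rw [hr]
  refine genRing_eq_top B hQ V hVA (fun x => Opens.mem_iSup.1 (hcov (Opens.mem_top x))) (fun k => ?_) U.2
  refine eq_top_iff.2 ((hSgen k).ge.trans (Subring.closure_mono (Set.union_subset_union le_rfl ?_)))
  exact fun b hb => le_sumData B P k (V k) (hSP k hb)

end GrothLib.QCAlgFT9
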